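import Cfsg.Agent.SporB.Fi22.U6.Cover
import Cfsg.Prelude.Def_Sporadic

/-!
The conjugates of the first generator form a class of 3510 3-transpositions of `Fi22`.
-/

set_option autoImplicit false
set_option maxRecDepth 100000

namespace Cfsg.Agent.CosetEnum.Fi22.U6

/-- The base transposition. -/
def aG : pres.Gp := pres.val 0

theorem aG_sq : aG * aG = 1 := by
  rw [aG, InvPres.val, letterVal_of_lt _ _ (show 0 < pres.gens.length by decide)]
  exact pres.sq_val _

theorem centralizer_aG : Subgroup.centralizer ({aG} : Set pres.Gp) = rep.stab nodup := by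
  have hle : rep.stab nodup ≤ Subgroup.centralizer {aG} := fun g hg => by
    rw [Subgroup.mem_centralizer_singleton_iff]
    have h : centralA ∈ Subgroup.center (rep.stab nodup) := center_eq ▸ centralA_ker
    exact congrArg Subtype.val (Subgroup.mem_center_iff.mp h ⟨g, hg⟩)
  rcases maximal _ hle with h | h
  · exact h
  · exfalso
    have hc : aG ∈ Subgroup.center pres.Gp := Subgroup.mem_center_iff.mpr fun g =>
      Subgroup.mem_centralizer_singleton_iff.mp (h ▸ Subgroup.mem_top g)
    haveI := simple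
    rcases (inferInstance : (Subgroup.center pres.Gp).Normal).eq_bot_or_eq_top with e | e
    · rw [e, Subgroup.mem_bot] at hc
      exact letter_a_ne_one hc
    · have hcomm : ∀ x y : pres.Gp, x * y = y * x := fun x y =>
        Subgroup.mem_center_iff.mp (e ▸ Subgroup.mem_top y) x
      letI : CommGroup pres.Gp := { (inferInstance : Group pres.Gp) with mul_comm := hcomm }
      have hp := IsSimpleGroup.prime_card (α := pres.Gp)
      rw [card_eq.1] at hp
      exact absurd hp (by norm_num)

theorem prod_pow {W : List ℕ} {m : ℕ} (hW : (repWord (prodWord W) m).all (fun l => Nat.blt l 9) = true)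
    (h : ∀ i < 3510, Rep.tbl.run (repWord (prodWord W) m) i = i) :
    (aG * ((evalWord pres.val W)⁻¹ * aG * evalWord pres.val W)) ^ m = 1 := by
  have e := eq_of_runs hW (W := []) rfl h
  rw [evalWord_repWord, prodWord] at e
  have e' : evalWord pres.val (0 :: (W.reverse ++ 0 :: W)) =
      aG * ((evalWord pres.val W)⁻¹ * aG * evalWord pres.val W) := by
    show pres.val 0 * evalWord pres.val (W.reverse ++ 0 :: W) = _
    rw [evalWord_append, evalWord_reverse, mul_assoc _ aG]
    rfl
  rwa [e'] at e

theorem conj_cases (k : pres.Gp) :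
    (aG * (k * aG * k⁻¹)) ^ 2 = 1 ∨ (aG * (k * aG * k⁻¹)) ^ 3 = 1 := by
  have hst : ∀ h ∈ rep.stab nodup, h * aG * h⁻¹ = aG := fun h hh => by
    rw [← centralizer_aG, Subgroup.mem_centralizer_singleton_iff] at hh
    rw [hh, mul_inv_cancel_right]
  set i := rep.hom nodup k rep.base with hi
  have hc := allRange_spec Rep.lab_ok i (Nat.zero_le _) (show (i : ℕ) < 0 + 3510 from by
    rw [Nat.zero_add]; exact i.2)
  have hc' : Rep.orb.getLab i < 3 := Nat.le_of_ble_eq_true hc
  generalize hlab : Rep.orb.getLab i = c at hc'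
  by_cases h0 : c = 0
  · have : k ∈ rep.stab nodup := by
      rw [rep.mem_stab]
      have hone : {j : Fin Rep.tbl.n | Nat.beq (Rep.orb.getLab j) 0 = true}.ncard ≤ 1 := by
        rw [ncard_fin_filter Rep.tbl.n (fun j => Nat.beq (Rep.orb.getLab j) 0)]
        exact Rep.size0.le
      refine (Set.ncard_le_one (Set.toFinite _)).mp hone _ ?_ _ ?_
      · show Nat.beq (Rep.orb.getLab i) 0 = true
        rw [hlab, h0]; rfl
      · show Nat.beq (Rep.orb.getLab 0) 0 = true
        decide +kernel
    left
    rw [hst k this, aG_sq, one_pow]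
  obtain ⟨W, hWroot, hW9, hWm⟩ : ∃ W : List ℕ, Rep.tbl.run W 0 = Rep.roots.getD c 0 ∧
      W.all (fun l => Nat.blt l 9) = true ∧
      ((aG * ((evalWord pres.val W)⁻¹ * aG * evalWord pres.val W)) ^ 2 = 1 ∨
        (aG * ((evalWord pres.val W)⁻¹ * aG * evalWord pres.val W)) ^ 3 = 1) := by
    have hp := fun i (hi : i < 3510) => allRange_spec prod_three i (Nat.zero_le _) (by omega)
    interval_cases c
    · exact absurd rfl h0
    · refine ⟨[1], by decide +kernel, rfl, Or.inr (prod_pow (by decide +kernel) fun i hi => ?_)⟩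
      exact Nat.eq_of_beq_eq_true (Bool.and_eq_true_iff.mp (hp i hi)).1
    · refine ⟨[1, 0, 2, 1], by decide +kernel, rfl, Or.inl (prod_pow (by decide +kernel) fun i hi => ?_)⟩
      exact Nat.eq_of_beq_eq_true (Bool.and_eq_true_iff.mp (hp i hi)).2
  have hroot : Rep.roots.getD c 0 < 3510 ∧
      Nat.beq (Rep.orb.getLab (Rep.roots.getD c 0)) c = true := by
    have := allRange_spec Rep.roots_ok c (Nat.zero_le _) (by omega)
    rw [Bool.and_eq_true] at this
    exact ⟨Nat.le_of_ble_eq_true this.1, this.2⟩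
  obtain ⟨q, hq, himg, -⟩ := rep.exists_orbit nodup Rep.descend Rep.ws Rep.ws_ok stab_closure Rep.orb
    c (Rep.roots.getD c 0) hroot.1 hroot.2
    (fun p hp => allRange_spec (Rep.orbit p hp) c (Nat.zero_le _) (by omega))
  obtain ⟨_, ⟨h, rfl⟩, hh⟩ : i ∈ rep.point nodup '' MulAction.orbit (rep.stab nodup) q := by
    rw [himg]
    show Nat.beq (Rep.orb.getLab i) c = true
    rw [hlab]
    exact Nat.beq_refl c
  set g := (evalWord pres.val W)⁻¹ with hg
  have hgb : rep.hom nodup g rep.base = rep.point nodup q := by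
    apply Fin.ext
    rw [hg, map_inv, rep.hom_inv_apply nodup
      (fun l hl => Nat.le_of_ble_eq_true (List.all_eq_true.mp hW9 l hl)), hq, ← hWroot]
    rfl
  have hstab : ((h : pres.Gp) * g)⁻¹ * k ∈ rep.stab nodup := by
    rw [rep.mem_stab, map_mul, map_inv, Equiv.Perm.mul_apply, Equiv.Perm.inv_eq_iff_eq, map_mul,
      Equiv.Perm.mul_apply, hgb, ← rep.point_smul]
    exact hh.symm
  have ek : k * aG * k⁻¹ = (h : pres.Gp) * (g * aG * g⁻¹) * (h : pres.Gp)⁻¹ := by
    have e := hst _ hstab
    calc k * aG * k⁻¹ = ((h : pres.Gp) * g) * ((((h : pres.Gp) * g)⁻¹ * k) * aG *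
          (((h : pres.Gp) * g)⁻¹ * k)⁻¹) * ((h : pres.Gp) * g)⁻¹ := by group
      _ = ((h : pres.Gp) * g) * aG * ((h : pres.Gp) * g)⁻¹ := by rw [e]
      _ = _ := by group
  have ep : aG * (k * aG * k⁻¹) = MulAut.conj (h : pres.Gp) (aG * (g * aG * g⁻¹)) := by
    rw [ek, MulAut.conj_apply]
    calc aG * ((h : pres.Gp) * (g * aG * g⁻¹) * (h : pres.Gp)⁻¹)
        = ((h : pres.Gp) * aG * (h : pres.Gp)⁻¹) * ((h : pres.Gp) * (g * aG * g⁻¹) * (h : pres.Gp)⁻¹) := by
          rw [hst _ h.2]
      _ = _ := by group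
  rw [ep, ← map_pow, ← map_pow]
  rw [hg, inv_inv]
  rcases hWm with e | e
  · left; rw [e, map_one]
  · right; rw [e, map_one]

theorem fi22_class : ∃ D : Set pres.Gp, Cfsg.IsThreeTranspositionClass D ∧ Nat.card D = 3510 ∧
    ∀ d ∈ D, ∃ (F : Type) (_ : Field F) (_ : Fintype F), Fintype.card F = 4 ∧
      Cfsg.IsNonsplitDoubleCover (Subgroup.centralizer ({d} : Set pres.Gp)) (Cfsg.PSU 6 F 2) := by
  have hmem : ∀ {d : pres.Gp}, d ∈ conjugatesOf aG → ∃ g, g * aG * g⁻¹ = d := fun hd =>
    isConj_iff.mp hd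
  refine ⟨conjugatesOf aG, ⟨⟨?_, ?_⟩, ⟨aG, mem_conjugatesOf_self, rfl⟩, ?_⟩, ?_, ?_⟩
  · intro d hd
    obtain ⟨g, rfl⟩ := hmem hd
    refine orderOf_eq_prime ?_ ?_
    · rw [← MulAut.conj_apply, ← map_pow, pow_two, aG_sq, map_one]
    · rw [← MulAut.conj_apply]
      exact fun h => letter_a_ne_one ((MulAut.conj g).injective (h.trans (map_one _).symm))
  · intro d hd e he
    obtain ⟨g, rfl⟩ := hmem hd
    obtain ⟨g', rfl⟩ := hmem he
    have e2 : g * aG * g⁻¹ * (g' * aG * g'⁻¹) =
        MulAut.conj g (aG * ((g⁻¹ * g') * aG * (g⁻¹ * g')⁻¹)) := by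
      rw [MulAut.conj_apply]; group
    rw [e2, ← map_pow, ← map_pow]
    rcases conj_cases (g⁻¹ * g') with h | h
    · left; rw [h, map_one]
    · right; rw [h, map_one]
  · have hn : (Subgroup.normalClosure ({aG} : Set pres.Gp)) =
        Subgroup.closure (conjugatesOf aG) := by
      rw [Subgroup.normalClosure, Group.conjugatesOfSet]
      simp
    rw [← hn]
    haveI := simple
    rcases (inferInstance : (Subgroup.normalClosure ({aG} : Set pres.Gp)).Normal).eq_bot_or_eq_top with h | h
    · have := Subgroup.subset_normalClosure (Set.mem_singleton aG)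
      rw [h, SetLike.mem_coe, Subgroup.mem_bot] at this
      exact absurd this letter_a_ne_one
    · exact h
  · have e : MulAction.orbit (ConjAct pres.Gp) aG = conjugatesOf aG := by
      ext x
      rw [ConjAct.mem_orbit_conjAct]
      exact ⟨IsConj.symm, IsConj.symm⟩
    rw [← e, Nat.card_coe_set_eq, ← MulAction.index_stabilizer, ConjAct.stabilizer_eq_centralizer]
    show (Subgroup.centralizer {aG}).index = 3510
    rw [centralizer_aG]
    exact rep.index_stab nodup Rep.descend
  · intro d hd
    obtain ⟨g, rfl⟩ := hmem hd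
    have e : (Subgroup.centralizer ({aG} : Set pres.Gp)).map (MulAut.conj g).toMonoidHom =
        Subgroup.centralizer {g * aG * g⁻¹} := by
      ext x
      rw [Subgroup.mem_map_equiv, Subgroup.mem_centralizer_singleton_iff,
        Subgroup.mem_centralizer_singleton_iff, MulAut.conj_symm_apply]
      constructor <;> intro h
      · calc x * (g * aG * g⁻¹) = g * ((g⁻¹ * x * g) * aG) * g⁻¹ := by group
          _ = g * (aG * (g⁻¹ * x * g)) * g⁻¹ := by rw [h]
          _ = _ := by group
      · calc g⁻¹ * x * g * aG = g⁻¹ * (x * (g * aG * g⁻¹)) * g := by group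
          _ = g⁻¹ * ((g * aG * g⁻¹) * x) * g := by rw [h]
          _ = _ := by group
    let φ : rep.stab nodup ≃* Subgroup.centralizer ({g * aG * g⁻¹} : Set pres.Gp) :=
      ((MulEquiv.subgroupCongr centralizer_aG).symm.trans
        ((MulAut.conj g).subgroupMap _)).trans (MulEquiv.subgroupCongr e)
    obtain ⟨hcard, ⟨q⟩, hns⟩ := stab_cover
    have hz : (Subgroup.center (rep.stab nodup)).map φ.toMonoidHom =
        Subgroup.center (Subgroup.centralizer ({g * aG * g⁻¹} : Set pres.Gp)) := by
      ext x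
      rw [Subgroup.mem_map_equiv, Subgroup.mem_center_iff, Subgroup.mem_center_iff]
      constructor <;> intro h y
      · apply φ.symm.injective
        rw [map_mul, map_mul]; exact h _
      · apply φ.injective
        rw [map_mul, map_mul, φ.apply_symm_apply]; exact h _
    refine ⟨He.F4, inferInstance, inferInstance, He.F4.card_eq, ?_, ⟨?_⟩, ?_⟩
    · rw [← hz, Subgroup.card_map_of_injective (f := φ.toMonoidHom) φ.injective]
      exact hcard
    · exact (QuotientGroup.congr _ _ φ hz).symm.trans q
    · intro L hL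
      refine hns (L.map φ.symm.toMonoidHom) ?_
      haveI := finite
      rw [← hz] at hL
      refine Subgroup.isComplement'_of_card_mul_and_disjoint ?_ ?_
      · rw [Subgroup.card_map_of_injective (f := φ.symm.toMonoidHom) φ.symm.injective,
          ← Subgroup.card_map_of_injective (f := φ.toMonoidHom)
            (K := Subgroup.center (rep.stab nodup)) φ.injective,
          hL.card_mul, Nat.card_congr φ.toEquiv]
      · rw [disjoint_iff, Subgroup.eq_bot_iff_forall]
        rintro x ⟨hx, y, hy, rfl⟩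
        have hxL : φ (φ.symm.toMonoidHom y) ∈ L := by
          show φ (φ.symm y) ∈ L
          rw [φ.apply_symm_apply]
          exact hy
        have : φ (φ.symm.toMonoidHom y) ∈ (Subgroup.center (rep.stab nodup)).map φ.toMonoidHom ⊓ L :=
          ⟨⟨_, hx, rfl⟩, hxL⟩
        rw [hL.disjoint.eq_bot, Subgroup.mem_bot] at this
        exact φ.injective (this.trans (map_one φ).symm)

end Cfsg.Agent.CosetEnum.Fi22.U6
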