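import Cfsg.Agent.SporB.Fi22.U6.Model

set_option autoImplicit false
set_option maxRecDepth 100000

namespace Cfsg.Agent.CosetEnum.Fi22.U6

theorem cover_ok : forceNat (maskOf pointCodes) (fun M => allRange (fun n =>
    M.testBit n || Nat.beq n 0 ||
      !decide (Cfsg.hermForm 6 He.F4 2 (vec n) (vec n) = 0)) 0 4096) = true := by
  decide +kernel

theorem code_ok : allRange (fun n => Nat.beq (code (vec n)) n) 0 4096 = true := by decide +kernel

end Cfsg.Agent.CosetEnum.Fi22.U6
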