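import Cfsg.Agent.SporB.Fi22.U6.Data
import Cfsg.Agent.SporB.Fi22.Rep.Data
import Cfsg.Agent.Lib.CosetEnum.Local

set_option autoImplicit false
set_option maxRecDepth 100000

namespace Cfsg.Agent.CosetEnum.Fi22.U6

/-- The word of a conjugate of `c`. -/
def conjWord (ks : List ℕ) : List ℕ := expand Rep.ws ks ++ 2 :: (expand Rep.ws ks).reverse

/-- The product of six conjugates of `c`. -/
def sixWord : List ℕ := six.flatMap conjWord

/-- Words to the representatives of the two long suborbits. -/
def rootWords : List (List ℕ) := [[1], [1, 0, 2, 1]]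

/-- The product of the base transposition with its conjugate by a root word. -/
def prodWord (W : List ℕ) : List ℕ := 0 :: (W.reverse ++ 0 :: W)

theorem roots_run : rootWords.map (fun W => Rep.tbl.run W 0) = [1, 6] := by decide +kernel

theorem six_lt : sixWord.all (fun l => Nat.blt l 9) = true := by decide +kernel

theorem six_run : allRange (fun i => Nat.beq (Rep.tbl.run sixWord i) (Rep.tbl.run [0] i)) 0 3510 = true := by
  decide +kernel

theorem prod_three : allRange (fun i =>
    Nat.beq (Rep.tbl.run (repWord (prodWord [1]) 3) i) i &&
      Nat.beq (Rep.tbl.run (repWord (prodWord [1, 0, 2, 1]) 2) i) i) 0 3510 = true := by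
  decide +kernel

end Cfsg.Agent.CosetEnum.Fi22.U6
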