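import Cfsg.Agent.SporB.Fi22.U6.CheckA
import Cfsg.Agent.SporB.Fi22.U6.CheckB
import Cfsg.Agent.SporB.Fi22.U6.CheckC
import Cfsg.Agent.SporB.Fi22.Main
import Cfsg.Agent.Lib.Unitary.Simple
import Cfsg.Agent.Lib.Unitary.Center
import Cfsg.Prelude.Def_SporadicB

/-!
The stabiliser of a point of the 3510-point action of `Fi22` is a non-split double cover of
`PSU₆(2)`: it acts on an orbit of length 693 as `SU₆(2)` acts on the isotropic lines.
-/

set_option autoImplicit false
set_option maxRecDepth 100000

namespace Cfsg.Agent.CosetEnum.Fi22.U6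

open Cfsg.Agent.Unitary He

/-- The unitary group. -/
abbrev SU6 : Subgroup (Matrix.SpecialLinearGroup (Fin 6) F4) := Cfsg.SU 6 F4 2

theorem one_trace : (1 : F4) + 1 ^ 2 = 0 := by decide

theorem centre_iso (k : ℕ) : herm 2 (vec (centres.getD k 0)) (vec (centres.getD k 0)) = (0 : F4) := by
  rcases Nat.lt_or_ge k centres.length with h | h
  · rw [List.getD_eq_getElem _ _ h]
    exact of_decide_eq_true (List.all_eq_true.mp centres_ok _ (List.getElem_mem h))
  · rw [List.getD_eq_default _ _ h]
    decide +kernel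

/-- The transvection of a generator; the identity for the first. -/
def tau : ℕ → SU6
  | 0 => 1
  | k + 1 => tv card_F4 (centre_iso k) one_trace

theorem tau_smul (k : ℕ) (x : Vec) : tau k • x = act k x := by
  cases k with
  | zero => exact one_smul _ x
  | succ k => exact tv_smul card_F4 (centre_iso k) one_trace x

/-- The value of a generating word. -/
def gen (k : ℕ) : pres.Gp := evalWord pres.val (Rep.ws.getD k [])

theorem evalWord_reverse : ∀ W : List ℕ, evalWord pres.val W.reverse = (evalWord pres.val W)⁻¹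
  | [] => inv_one.symm
  | l :: ls => by
    rw [List.reverse_cons, evalWord_append, evalWord_reverse ls]
    show _ * (pres.val l * 1) = (pres.val l * evalWord pres.val ls)⁻¹
    have hs : pres.val l * pres.val l = 1 := by
      rcases Nat.lt_or_ge l pres.gens.length with h | h
      · rw [InvPres.val, letterVal_of_lt _ _ h]
        exact pres.sq_val _
      · simp [InvPres.val, letterVal, List.getElem?_eq_none_iff.mpr h]
    rw [mul_one, mul_inv_rev, inv_eq_of_mul_eq_one_right hs]

theorem eq_of_runs {V W : List ℕ} (hV : V.all (fun l => Nat.blt l 9) = true)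
    (hW : W.all (fun l => Nat.blt l 9) = true)
    (h : ∀ i < 3510, Rep.tbl.run V i = Rep.tbl.run W i) :
    evalWord pres.val V = evalWord pres.val W := by
  simp only [List.all_eq_true] at hV hW
  apply card_eq.2
  rw [← inv_inj]
  refine Equiv.ext fun i => Fin.ext ?_
  rw [rep.hom_inv_apply nodup (fun l hl => Nat.le_of_ble_eq_true (hV l hl)),
    rep.hom_inv_apply nodup (fun l hl => Nat.le_of_ble_eq_true (hW l hl))]
  exact h i i.2

theorem gen_sq (k : ℕ) : gen k * gen k = 1 := by
  rcases Nat.lt_or_ge k Rep.ws.length with h | h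
  · have hc : allRange (fun k => allRange (fun i => Nat.beq
        (Rep.tbl.run (Rep.ws.getD k [] ++ Rep.ws.getD k []) i) i) 0 3510 &&
        (Rep.ws.getD k [] ++ Rep.ws.getD k []).all (fun l => Nat.blt l 9)) 0 9 = true := by
      decide +kernel
    have := allRange_spec hc k (Nat.zero_le _) (show k < 0 + 9 from by
      rw [show Rep.ws.length = 9 from rfl] at h; omega)
    rw [Bool.and_eq_true] at this
    rw [gen, ← evalWord_append]
    refine (eq_of_runs this.2 (W := []) rfl fun i hi => ?_).trans rfl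
    exact Nat.eq_of_beq_eq_true (allRange_spec this.1 i (Nat.zero_le _) (by omega))
  · rw [gen, List.getD_eq_default _ _ h]
    exact one_mul 1

/-- The pairs generating the correspondence. -/
def pairs : Set (pres.Gp × SU6) := {g | ∃ k < 9, g = (gen k, tau k)}

/-- The correspondence between the stabiliser and the unitary group. -/
def corr : Subgroup (pres.Gp × SU6) := Subgroup.closure pairs

/-- A point of the orbit. -/
def InOrbit (i : Fin Rep.tbl.n) : Prop := cmap.get 16 i ≠ 0

/-- A pair respects the matching of points with isotropic lines. -/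
def Respects (g : pres.Gp × SU6) : Prop :=
  ∀ i : Fin Rep.tbl.n, InOrbit i → InOrbit (rep.hom nodup g.1 i) ∧
    ∃ l : F4, l ≠ 0 ∧ g.2 • pvec i = l • pvec (rep.hom nodup g.1 i : Fin Rep.tbl.n)

theorem respects_mul {g h : pres.Gp × SU6} (hg : Respects g) (hh : Respects h) :
    Respects (g * h) := by
  intro i hi
  obtain ⟨hj, l, hl, e⟩ := hh i hi
  obtain ⟨hk, m, hm, e'⟩ := hg _ hj
  rw [Prod.fst_mul, map_mul, Equiv.Perm.mul_apply]
  refine ⟨hk, l * m, mul_ne_zero hl hm, ?_⟩
  rw [Prod.snd_mul, mul_smul, e, smul_comm g.2 l, e', smul_smul]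

theorem ws_lt (k : ℕ) : ∀ l ∈ Rep.ws.getD k [], l < Rep.tbl.nl := by
  intro l hl
  rcases Nat.lt_or_ge k Rep.ws.length with h | h
  · rw [List.getD_eq_getElem _ _ h] at hl
    have := Rep.ws_ok
    simp only [List.all_eq_true] at this
    exact Nat.le_of_ble_eq_true (this _ (List.getElem_mem h) l hl)
  · rw [List.getD_eq_default _ _ h] at hl
    exact absurd hl List.not_mem_nil

theorem hom_gen (k : ℕ) (i : Fin Rep.tbl.n) :
    ((rep.hom nodup (gen k) i : Fin Rep.tbl.n) : ℕ) = Rep.tbl.run (Rep.ws.getD k []) i := by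
  have h := rep.hom_inv_apply nodup (ws_lt k) i
  rwa [← gen, ← map_inv, inv_eq_of_mul_eq_one_right (gen_sq k)] at h

theorem respects_pair {k : ℕ} (hk : k < 9) : Respects (gen k, tau k) := by
  intro i hi
  have h := allRange_spec point_ok i (Nat.zero_le _) (show (i : ℕ) < 0 + 3510 from by
    rw [Nat.zero_add]; exact i.2)
  rw [checkPoint, show Nat.beq (cmap.get 16 i) 0 = false from
    Bool.eq_false_iff.mpr fun e => hi (Nat.eq_of_beq_eq_true e), cond_false] at h
  have h' := allRange_spec h k (Nat.zero_le _) (by omega)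
  simp only [Bool.and_eq_true, Bool.not_eq_true', List.any_eq_true, decide_eq_true_eq] at h'
  obtain ⟨hne, l, hl, he⟩ := h'
  refine ⟨?_, l, mem_scalars hl, ?_⟩
  · intro e
    rw [hom_gen] at e
    rw [e] at hne
    exact absurd hne (by decide)
  · funext j
    rw [Pi.smul_apply, smul_eq_mul, hom_gen]
    exact (congrFun (tau_smul k (pvec i)) j).trans (he j)

theorem tau_sq (k : ℕ) : tau k * tau k = 1 := by
  cases k with
  | zero => exact one_mul 1
  | succ k =>
    refine eq_of_smul_eq_SU fun x => ?_
    rw [mul_smul, tau, tv_smul, tv_smul, one_smul, herm_add_left, herm_smul_left, centre_iso,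
      mul_zero, add_zero, one_mul]
    funext j
    simp only [Pi.add_apply, Pi.smul_apply, smul_eq_mul]
    rw [add_assoc, ← add_mul, show ∀ c : F4, c + c = 0 from by decide, zero_mul, add_zero]

theorem respects_corr {g : pres.Gp × SU6} (hg : g ∈ corr) : Respects g := by
  induction hg using Subgroup.closure_induction_left with
  | one => exact fun i hi => ⟨by rwa [Prod.fst_one, map_one], 1, one_ne_zero, by
      rw [Prod.fst_one, Prod.snd_one, map_one, one_smul, one_smul]; rfl⟩
  | mul_left x hx y _ ih =>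
    obtain ⟨k, hk, rfl⟩ := hx
    exact respects_mul (respects_pair hk) ih
  | inv_mul_cancel x hx y _ ih =>
    obtain ⟨k, hk, rfl⟩ := hx
    rw [show ((gen k, tau k) : pres.Gp × SU6)⁻¹ = (gen k, tau k) from
      inv_eq_of_mul_eq_one_right (Prod.ext (gen_sq k) (tau_sq k))]
    exact respects_mul (respects_pair hk) ih

theorem iso_point (p : ℕ) (hp : p < 3510) (h0 : cmap.get 16 p ≠ 0) :
    ∃ i : Fin Rep.tbl.n, InOrbit i ∧ (i : ℕ) = p :=
  ⟨⟨p, hp⟩, h0, rfl⟩

theorem exists_point {v : Vec} (hv : v ≠ 0) (hvv : herm 2 v v = 0) :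
    ∃ p ∈ pts, ∃ l : F4, l ≠ 0 ∧ v = l • pvec p := by
  have hlt : code v < 4096 := by
    have hb : ∀ a : F4, [F4.z, F4.e, F4.w, F4.x].idxOf a < 4 := by decide
    have := hb (v 0); have := hb (v 1); have := hb (v 2); have := hb (v 3); have := hb (v 4)
    have := hb (v 5)
    simp only [code, List.foldr_cons, List.foldr_nil]
    omega
  have hvc : vec (code v) = v := by
    funext i
    have key : ∀ a b c d e f : F4, allRange (fun i => decide
        (elt (([F4.z, F4.e, F4.w, F4.x].idxOf a + 4 * ([F4.z, F4.e, F4.w, F4.x].idxOf b +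
          4 * ([F4.z, F4.e, F4.w, F4.x].idxOf c + 4 * ([F4.z, F4.e, F4.w, F4.x].idxOf d +
          4 * ([F4.z, F4.e, F4.w, F4.x].idxOf e + 4 * ([F4.z, F4.e, F4.w, F4.x].idxOf f + 4 * 0))))))
          / 4 ^ i) = [a, b, c, d, e, f].getD i a)) 0 6 = true := by decide +kernel
    have := of_decide_eq_true
      (allRange_spec (key (v 0) (v 1) (v 2) (v 3) (v 4) (v 5)) i (Nat.zero_le _) (by omega))
    refine this.trans ?_
    fin_cases i <;> rfl
  have h := cover_ok
  rw [forceNat_eq] at h
  have h' := allRange_spec h (code v) (Nat.zero_le _) (by omega)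
  rw [Bool.or_eq_true, Bool.or_eq_true, hvc] at h'
  rcases h' with (h' | h') | h'
  · obtain ⟨p, hp, hm⟩ := List.mem_flatMap.mp (maskOf_spec h')
    obtain ⟨l, hl, he⟩ := List.mem_map.mp hm
    refine ⟨p, hp, l, mem_scalars hl, ?_⟩
    have hcode : ∀ x y : Vec, code x = code y → x = y := by
      intro x y e
      have inj : ∀ a b : F4, [F4.z, F4.e, F4.w, F4.x].idxOf a = [F4.z, F4.e, F4.w, F4.x].idxOf b →
          a = b := by decide
      have hb : ∀ a : F4, [F4.z, F4.e, F4.w, F4.x].idxOf a < 4 := by decide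
      have := hb (x 0); have := hb (x 1); have := hb (x 2); have := hb (x 3); have := hb (x 4)
      have := hb (x 5); have := hb (y 0); have := hb (y 1); have := hb (y 2); have := hb (y 3)
      have := hb (y 4); have := hb (y 5)
      simp only [code, List.foldr_cons, List.foldr_nil] at e
      funext i
      apply inj
      fin_cases i <;> simp only [Fin.reduceFinMk, Fin.zero_eta, Fin.mk_one] <;> omega
    exact (hcode _ _ he).symm
  · exact absurd (hvc.symm.trans (by rw [Nat.eq_of_beq_eq_true h']; funext i; fin_cases i <;> rfl)) hv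
  · rw [Bool.not_eq_true', decide_eq_false_iff_not] at h'
    exact absurd hvv h'

theorem pts_orbit {p : ℕ} (hp : p ∈ pts) : p < 3510 ∧ cmap.get 16 p ≠ 0 := by
  have h := List.all_eq_true.mp pts_ok p hp
  rw [Bool.and_eq_true, Bool.not_eq_true'] at h
  exact ⟨Nat.le_of_ble_eq_true h.1, fun e => by rw [e] at h; exact absurd h.2 (by decide)⟩

/-- The image of the correspondence in the unitary group. -/
def image : Subgroup SU6 := corr.map (MonoidHom.snd pres.Gp SU6)

theorem tau_mem {k : ℕ} (hk : k < 9) : tau k ∈ image :=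
  ⟨(gen k, tau k), Subgroup.subset_closure ⟨k, hk, rfl⟩, rfl⟩

theorem tv_scale {u : Vec} {l : F4} (hl : l ≠ 0) {hu : herm 2 u u = 0}
    {hlu : herm 2 (l • u) (l • u) = 0} {c : F4} {hc : c + c ^ 2 = 0} :
    tv card_F4 hlu hc = tv card_F4 hu hc := by
  refine eq_of_smul_eq_SU fun x => ?_
  rw [tv_smul, tv_smul, herm_smul_right card_F4, smul_smul]
  congr 2
  have h3 : ∀ l : F4, l ≠ 0 → l ^ 2 * l = 1 := by decide
  calc c * (l ^ 2 * herm 2 x u) * l = (c * herm 2 x u) * (l ^ 2 * l) := by ring
    _ = c * herm 2 x u := by rw [h3 l hl, mul_one]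

theorem tree_mem : ∀ i < 693, ∀ hu : herm 2 (pvec (pts.getD i 0)) (pvec (pts.getD i 0)) = 0,
    tv card_F4 hu one_trace ∈ image := by
  intro i
  induction i using Nat.strong_induction_on with
  | _ i ih =>
    intro hi hu
    rcases Nat.eq_zero_or_pos i with rfl | hpos
    · have e : pvec (pts.getD 0 0) = vec (centres.getD 0 0) := by decide +kernel
      have h := tau_mem (k := 1) (by omega)
      have e' : tv card_F4 hu one_trace = tau 1 := eq_of_smul_eq_SU fun x => by
        rw [tau, tv_smul, tv_smul, e]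
      rw [e']; exact h
    · have h := allRange_spec tree_ok i hpos (by omega)
      simp only [Bool.and_eq_true] at h
      obtain ⟨⟨hk, hq⟩, hrun⟩ := h
      have hk' := Nat.le_of_ble_eq_true hk
      have hq' : (edges.getD i (0, 0)).2 < i := Nat.le_of_ble_eq_true hq
      set k := (edges.getD i (0, 0)).1
      set q := (edges.getD i (0, 0)).2
      have hqlen : q < pts.length := by
        have : pts.length = 693 := by decide +kernel
        omega
      have hmem : pts.getD q 0 ∈ pts := by
        rw [List.getD_eq_getElem _ _ hqlen]; exact List.getElem_mem hqlen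
      obtain ⟨j, hj, hjq⟩ := iso_point _ (pts_orbit hmem).1 (pts_orbit hmem).2
      obtain ⟨-, l, hl, he⟩ := respects_pair hk' j hj
      rw [hom_gen, hjq, Nat.eq_of_beq_eq_true hrun] at he
      have huq : herm 2 (pvec (pts.getD q 0)) (pvec (pts.getD q 0)) = 0 := by
        have := herm_smul_SU (tau k) (pvec (pts.getD q 0)) (pvec (pts.getD q 0))
        rw [he, herm_smul_left, herm_smul_right card_F4, hu, mul_zero, mul_zero] at this
        exact this.symm
      have hlu : herm 2 (l • pvec (pts.getD i 0)) (l • pvec (pts.getD i 0)) = 0 := by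
        rw [herm_smul_left, herm_smul_right card_F4, hu, mul_zero, mul_zero]
      have hc := conj_tv card_F4 (tau k) huq one_trace
      have e : tau k * tv card_F4 huq one_trace * (tau k)⁻¹ = tv card_F4 hlu one_trace := by
        rw [hc]
        exact eq_of_smul_eq_SU fun x => by rw [tv_smul, tv_smul, he]
      rw [← tv_scale hl (hlu := hlu), ← e]
      exact mul_mem (mul_mem (tau_mem hk') (ih q hq' (by omega) huq)) (inv_mem (tau_mem hk'))

theorem image_eq_top : image = ⊤ := by
  rw [eq_top_iff, ← Unitary.tvGroup_empty card_F4 (n := 6) (by omega), tvGroup, Subgroup.closure_le]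
  rintro _ ⟨u, c, hu, hc, -, rfl⟩
  by_cases hu0 : u = 0
  · subst hu0
    rw [SetLike.mem_coe, show tv card_F4 hu hc = 1 from eq_of_smul_eq_SU fun x => by
      rw [tv_smul, smul_zero, add_zero, one_smul]]
    exact one_mem _
  have hc' : c = 0 ∨ c = 1 := by
    revert hc
    revert c
    decide
  rcases hc' with rfl | rfl
  · rw [SetLike.mem_coe, show tv card_F4 hu hc = 1 from eq_of_smul_eq_SU fun x => by
      rw [tv_smul, zero_mul, zero_smul, add_zero, one_smul]]
    exact one_mem _
  obtain ⟨p, hp, l, hl, rfl⟩ := exists_point hu0 hu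
  obtain ⟨i, hi, rfl⟩ := List.getElem_of_mem hp
  have hpu : herm 2 (pvec pts[i]) (pvec pts[i]) = 0 := by
    have h := hu
    rw [herm_smul_left, herm_smul_right card_F4, ← mul_assoc] at h
    exact (mul_eq_zero.mp h).resolve_left (mul_ne_zero hl (pow_ne_zero _ hl))
  have hlen : i < 693 := (show pts.length = 693 by decide +kernel) ▸ hi
  rw [SetLike.mem_coe, tv_scale hl (hu := hpu)]
  have hpu' : herm 2 (pvec (pts.getD i 0)) (pvec (pts.getD i 0)) = 0 := by
    rwa [List.getD_eq_getElem _ _ hi]
  have := tree_mem i hlen hpu'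
  simpa only [List.getD_eq_getElem _ _ hi] using this

/-- The projection to the stabiliser. -/
noncomputable def toStab : corr →* rep.stab nodup :=
  ((MonoidHom.fst pres.Gp SU6).comp corr.subtype).codRestrict _ fun g => by
    have hle : corr ≤ (rep.stab nodup).comap (MonoidHom.fst pres.Gp SU6) := by
      rw [corr, Subgroup.closure_le]
      rintro _ ⟨k, hk, rfl⟩
      show gen k ∈ rep.stab nodup
      rw [stab_closure]
      exact Subgroup.subset_closure ⟨Rep.ws.getD k [],
        (by decide +kernel : ∀ k < 9, Rep.ws.getD k [] ∈ Rep.ws) k hk, rfl⟩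
    exact hle g.2

/-- The projection to the simple unitary group. -/
def toPSU : corr →* Cfsg.PSU 6 F4 2 :=
  (QuotientGroup.mk' (Subgroup.center SU6)).comp ((MonoidHom.snd pres.Gp SU6).comp corr.subtype)

theorem toStab_surjective : Function.Surjective toStab := by
  rintro ⟨g, hg⟩
  have hle : rep.stab nodup ≤ corr.map (MonoidHom.fst pres.Gp SU6) := by
    rw [stab_closure, Subgroup.closure_le]
    rintro _ ⟨W, hW, rfl⟩
    obtain ⟨k, hk, rfl⟩ := List.getElem_of_mem hW
    refine ⟨(gen k, tau k), Subgroup.subset_closure ⟨k, by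
      rwa [show Rep.ws.length = 9 from rfl] at hk, rfl⟩, ?_⟩
    show gen k = _
    rw [gen, List.getD_eq_getElem _ _ hk]
  obtain ⟨x, hx, e⟩ := hle hg
  exact ⟨⟨x, hx⟩, Subtype.ext e⟩

theorem toPSU_surjective : Function.Surjective toPSU := by
  intro y
  obtain ⟨s, rfl⟩ := QuotientGroup.mk'_surjective _ y
  obtain ⟨x, hx, e⟩ := (image_eq_top ▸ Subgroup.mem_top s : s ∈ image)
  exact ⟨⟨x, hx⟩, congrArg (QuotientGroup.mk' _) e⟩

theorem ker_le : toStab.ker ≤ toPSU.ker := by
  intro x hx
  have h1 : (x : pres.Gp × SU6).1 = 1 := congrArg Subtype.val hx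
  refine (QuotientGroup.eq_one_iff _).mpr ((mem_center_iff card_F4 (by omega)).mpr ?_)
  obtain ⟨r, -, -, hr⟩ := scalar_of_fix_isotropic_lines card_F4 (n := 6) (by omega)
    (g := (x : pres.Gp × SU6).2) fun u hu => by
      by_cases hu0 : u = 0
      · exact ⟨1, by rw [hu0, smul_zero, smul_zero]⟩
      obtain ⟨p, hp, l, -, rfl⟩ := exists_point hu0 hu
      obtain ⟨i, hi, rfl⟩ := iso_point p (pts_orbit hp).1 (pts_orbit hp).2
      obtain ⟨-, m, -, hm⟩ := respects_corr x.2 i hi
      rw [h1, map_one] at hm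
      exact ⟨m, by rw [smul_comm _ l, hm, smul_comm l]; rfl⟩
  exact ⟨r, hr⟩

/-- The stabiliser maps onto the simple unitary group. -/
noncomputable def toUnitary : rep.stab nodup →* Cfsg.PSU 6 F4 2 :=
  toStab.liftOfSurjective toStab_surjective ⟨toPSU, ker_le⟩

theorem toUnitary_apply (x : corr) : toUnitary (toStab x) = toPSU x :=
  MonoidHom.liftOfRightInverse_comp_apply _ _ _ _ x

theorem toUnitary_surjective : Function.Surjective toUnitary := fun y => by
  obtain ⟨x, hx⟩ := toPSU_surjective y
  exact ⟨toStab x, (toUnitary_apply x).trans hx⟩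

theorem card_PSU6 : Nat.card (Cfsg.PSU 6 F4 2) = 9196830720 := by
  have h := card_PSU (F := F4) (n := 6) (q := 2) card_F4 (by omega)
  rw [show Nat.gcd 6 (2 + 1) = 3 from rfl,
    show (2 : ℕ) ^ (6 * (6 - 1) / 2) * ∏ i ∈ Finset.range 6,
      (if Even i then 2 ^ (i + 1) + 1 else 2 ^ (i + 1) - 1) = 82771476480 from by decide +kernel] at h
  change 3 * ((2 + 1) * Nat.card (Cfsg.PSU 6 F4 2)) = 82771476480 at h
  generalize Nat.card (Cfsg.PSU 6 F4 2) = N at h ⊢
  omega

theorem card_ker : Nat.card toUnitary.ker = 2 := by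
  haveI := finite
  have h := Subgroup.card_mul_index toUnitary.ker
  rw [Subgroup.index_ker, MonoidHom.range_eq_top.mpr toUnitary_surjective, Subgroup.card_top,
    card_PSU6, stab_card] at h
  exact Nat.eq_of_mul_eq_mul_right (by norm_num : 0 < 9196830720) (h.trans (by norm_num))

theorem letter_a_mem : pres.val 0 ∈ rep.stab nodup := by
  rw [stab_closure]
  exact Subgroup.subset_closure ⟨[0], by decide, mul_one _⟩

theorem letter_a_ne_one : pres.val 0 ≠ 1 := by
  intro h
  have h' := congrArg (fun g : pres.Gp => ((rep.hom nodup g ⟨2, by decide⟩ : Fin Rep.tbl.n) : ℕ)) h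
  simp only [map_one, Equiv.Perm.one_apply] at h'
  rw [rep.gen_apply nodup (l := 0) (by decide)] at h'
  revert h'
  decide +kernel

/-- The central involution of the stabiliser. -/
def centralA : rep.stab nodup := ⟨pres.val 0, letter_a_mem⟩

theorem centralA_ker : centralA ∈ toUnitary.ker := by
  have hm : ((gen 0, tau 0) : pres.Gp × SU6) ∈ corr := Subgroup.subset_closure ⟨0, by omega, rfl⟩
  have e : toStab ⟨_, hm⟩ = centralA := Subtype.ext (show gen 0 = pres.val 0 from mul_one _)
  rw [MonoidHom.mem_ker, ← e, toUnitary_apply]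
  show QuotientGroup.mk' (Subgroup.center SU6) (1 : SU6) = 1
  exact map_one _

theorem mem_ker_iff (x : rep.stab nodup) : x ∈ toUnitary.ker ↔ x = 1 ∨ x = centralA := by
  refine ⟨fun hx => ?_, ?_⟩
  · haveI := finite
    by_contra h
    push_neg at h
    have hne : centralA ≠ 1 := fun e => letter_a_ne_one (congrArg Subtype.val e)
    have h3 : 2 < Nat.card toUnitary.ker := by
      haveI := Fintype.ofFinite toUnitary.ker
      rw [Nat.card_eq_fintype_card, Fintype.two_lt_card_iff]
      exact ⟨1, ⟨x, hx⟩, ⟨centralA, centralA_ker⟩, fun e => h.1 (congrArg Subtype.val e).symm,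
        fun e => hne (congrArg Subtype.val e).symm, fun e => h.2 (congrArg Subtype.val e)⟩
    rw [card_ker] at h3
    omega
  · rintro (rfl | rfl)
    · exact one_mem _
    · exact centralA_ker

theorem center_eq : Subgroup.center (rep.stab nodup) = toUnitary.ker := by
  apply le_antisymm
  · intro z hz
    haveI := isSimpleGroup_PSU (F := F4) (n := 6) (q := 2) card_F4 (by omega) (by omega)
    have hc : toUnitary z ∈ Subgroup.center (Cfsg.PSU 6 F4 2) := Subgroup.mem_center_iff.mpr fun y => by
      obtain ⟨w, rfl⟩ := toUnitary_surjective y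
      rw [← map_mul, ← map_mul, Subgroup.mem_center_iff.mp hz w]
    rcases (inferInstance : (Subgroup.center (Cfsg.PSU 6 F4 2)).Normal).eq_bot_or_eq_top with h | h
    · rwa [h, Subgroup.mem_bot] at hc
    · exfalso
      have hcomm : ∀ a b : Cfsg.PSU 6 F4 2, a * b = b * a := fun a b =>
        Subgroup.mem_center_iff.mp (h ▸ Subgroup.mem_top b) a
      letI : CommGroup (Cfsg.PSU 6 F4 2) := { (inferInstance : Group (Cfsg.PSU 6 F4 2)) with
        mul_comm := hcomm }
      have hp := IsSimpleGroup.prime_card (α := Cfsg.PSU 6 F4 2)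
      rw [card_PSU6] at hp
      exact absurd hp (by norm_num)
  · intro x hx
    rcases (mem_ker_iff x).mp hx with rfl | rfl
    · exact one_mem _
    · refine Subgroup.mem_center_iff.mpr fun g => ?_
      have hn : g * centralA * g⁻¹ ∈ toUnitary.ker :=
        (MonoidHom.normal_ker toUnitary).conj_mem _ centralA_ker g
      rcases (mem_ker_iff _).mp hn with h | h
      · exact absurd (congrArg Subtype.val (conj_eq_one_iff.mp h)) letter_a_ne_one
      · exact mul_inv_eq_iff_eq_mul.mp h

theorem nonsplit (L : Subgroup (rep.stab nodup)) :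
    ¬ (Subgroup.center (rep.stab nodup)).IsComplement' L := by
  intro hL
  haveI := finite
  have h2 : L.index = 2 := by
    rw [hL.index_eq_card, center_eq, card_ker]
  have hA : centralA ∉ L := fun h => by
    have : centralA ∈ Subgroup.center (rep.stab nodup) ⊓ L := ⟨center_eq ▸ centralA_ker, h⟩
    rw [hL.disjoint.eq_bot, Subgroup.mem_bot] at this
    exact letter_a_ne_one (congrArg Subtype.val this)
  have hc : pres.val 2 ∈ rep.stab nodup := by
    rw [stab_closure]
    exact Subgroup.subset_closure ⟨[2], by decide, mul_one _⟩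
  have hexp : ∀ ks : List ℕ, evalWord pres.val (expand Rep.ws ks) ∈ rep.stab nodup := fun ks => by
    rw [← stab_eq.1]
    exact pres.evalWord_mem_wsub Rep.ws ks
  have hconj : ∀ ks : List ℕ, ∃ h : evalWord pres.val (conjWord ks) ∈ rep.stab nodup,
      ((⟨_, h⟩ : rep.stab nodup) ∈ L ↔ (⟨_, hc⟩ : rep.stab nodup) ∈ L) := by
    intro ks
    have e : evalWord pres.val (conjWord ks) = evalWord pres.val (expand Rep.ws ks) * pres.val 2 *
        (evalWord pres.val (expand Rep.ws ks))⁻¹ := by
      rw [conjWord, evalWord_append, ← evalWord_reverse, mul_assoc]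
      rfl
    have hm : evalWord pres.val (conjWord ks) ∈ rep.stab nodup :=
      e ▸ mul_mem (mul_mem (hexp ks) hc) (inv_mem (hexp ks))
    refine ⟨hm, ?_⟩
    have e' : (⟨_, hm⟩ : rep.stab nodup) = ⟨_, hexp ks⟩ * ⟨_, hc⟩ * ⟨_, hexp ks⟩⁻¹ := Subtype.ext e
    haveI := Subgroup.normal_of_index_eq_two h2
    rw [e']
    exact ⟨fun h => by
      have := (inferInstance : L.Normal).conj_mem _ h (⟨_, hexp ks⟩ : rep.stab nodup)⁻¹
      rwa [inv_inv, mul_assoc, mul_assoc, inv_mul_cancel, mul_one, ← mul_assoc, inv_mul_cancel,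
        one_mul] at this,
      fun h => (inferInstance : L.Normal).conj_mem _ h _⟩
  have hpar : ∀ l : List (List ℕ), ∃ h : evalWord pres.val (l.flatMap conjWord) ∈ rep.stab nodup,
      ((⟨_, h⟩ : rep.stab nodup) ∈ L ↔ ((⟨_, hc⟩ : rep.stab nodup) ∈ L ∨ Even l.length)) := by
    intro l
    induction l with
    | nil => exact ⟨one_mem _, iff_of_true (one_mem L) (Or.inr ⟨0, rfl⟩)⟩
    | cons ks l ih =>
      obtain ⟨h1, i1⟩ := hconj ks
      obtain ⟨h2', i2⟩ := ih
      have hm : evalWord pres.val ((ks :: l).flatMap conjWord) ∈ rep.stab nodup := by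
        rw [List.flatMap_cons, evalWord_append]; exact mul_mem h1 h2'
      refine ⟨hm, ?_⟩
      have e : (⟨_, hm⟩ : rep.stab nodup) = ⟨_, h1⟩ * ⟨_, h2'⟩ :=
        Subtype.ext (by
          show evalWord pres.val ((ks :: l).flatMap conjWord) = _
          rw [List.flatMap_cons, evalWord_append]
          rfl)
      rw [e, Subgroup.mul_mem_iff_of_index_two h2, i1, i2, List.length_cons, Nat.even_add_one]
      tauto
  obtain ⟨hs, hiff⟩ := hpar six
  have e6 : (⟨_, hs⟩ : rep.stab nodup) = centralA := by
    refine Subtype.ext ((eq_of_runs six_lt (W := [0]) rfl fun i hi => ?_).trans (mul_one _))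
    exact Nat.eq_of_beq_eq_true (allRange_spec six_run i (Nat.zero_le _) (by omega))
  exact hA (e6 ▸ hiff.mpr (Or.inr (by decide)))

theorem stab_cover : Cfsg.IsNonsplitDoubleCover (rep.stab nodup) (Cfsg.PSU 6 F4 2) :=
  ⟨by rw [center_eq]; exact card_ker,
    ⟨(QuotientGroup.quotientMulEquivOfEq center_eq).trans
      (QuotientGroup.quotientKerEquivOfSurjective toUnitary toUnitary_surjective)⟩,
    nonsplit⟩

theorem cover_of_eq {H : Subgroup pres.Gp} (e : H = rep.stab nodup) :
    ∃ (K : Type) (_ : Field K) (_ : Fintype K),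
      Fintype.card K = 4 ∧ Cfsg.IsNonsplitDoubleCover H (Cfsg.PSU 6 K 2) := by
  subst e
  exact ⟨F4, inferInstance, inferInstance, F4.card_eq, stab_cover⟩

end Cfsg.Agent.CosetEnum.Fi22.U6
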