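import Cfsg.Agent.SporB.Fi22.U6.Model

set_option autoImplicit false
set_option maxRecDepth 100000

namespace Cfsg.Agent.CosetEnum.Fi22.U6

theorem point_ok : allRange checkPoint 0 3510 = true := by decide +kernel

theorem tree_ok : allRange (fun i =>
    let e := edges.getD i (0, 0)
    Nat.blt e.1 9 && Nat.blt e.2 i &&
      Nat.beq (Rep.tbl.run (Rep.ws.getD e.1 []) (pts.getD e.2 0)) (pts.getD i 0)) 1 692 = true := by
  decide +kernel

theorem pts_ok : pts.all (fun p => Nat.blt p 3510 && !Nat.beq (cmap.get 16 p) 0) = true := by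
  decide +kernel

theorem centres_ok : centres.all (fun c => decide (Cfsg.hermForm 6 He.F4 2 (vec c) (vec c) = 0)) = true := by
  decide +kernel

end Cfsg.Agent.CosetEnum.Fi22.U6
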