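import Cfsg.Agent.SporB.Fi22.U6.Data
import Cfsg.Agent.SporB.Fi22.Rep.Data
import Cfsg.Agent.SporB.He.F4
import Cfsg.Agent.Lib.Unitary.Basic

/-!
Eight transvections of the six-dimensional unitary space over four elements, matched with the
generators of the stabiliser of a point of the 3510-point action of `Fi22` on its orbit of length 693.
-/

set_option autoImplicit false
set_option maxRecDepth 100000

namespace Cfsg.Agent.CosetEnum.Fi22.U6

open Cfsg.Agent.Unitary He

theorem card_F4 : Fintype.card F4 = 2 ^ 2 := rfl

/-- The six-dimensional unitary space. -/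
abbrev Vec : Type := Fin 6 → F4

/-- The vector with a code. -/
def vec (n : ℕ) : Vec := fun i => elt (n / 4 ^ (i : ℕ))

/-- The vector of a point of the orbit. -/
noncomputable def pvec (p : ℕ) : Vec := vec (cmap.get 16 p)

/-- The nonzero scalars. -/
def scalars : List F4 := [.e, .w, .x]

theorem mem_scalars {l : F4} (h : l ∈ scalars) : l ≠ 0 := by
  simp only [scalars, List.mem_cons, List.not_mem_nil, or_false] at h
  rcases h with rfl | rfl | rfl <;> decide

/-- The image of a vector under a transvection or the identity. -/
noncomputable def act (k : ℕ) (x : Vec) : Vec :=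
  match k with
  | 0 => x
  | k + 1 => x + (1 * herm 2 x (vec (centres.getD k 0))) • vec (centres.getD k 0)

/-- The check at one point. -/
noncomputable def checkPoint (p : ℕ) : Bool :=
  cond (Nat.beq (cmap.get 16 p) 0) true <| allRange (fun k =>
    let q := Rep.tbl.run (Rep.ws.getD k []) p
    !Nat.beq (cmap.get 16 q) 0 &&
      scalars.any (fun l => decide (∀ i : Fin 6, act k (pvec p) i = l * pvec q i))) 0 9

/-- A union of bits. -/
def maskOf : List ℕ → ℕ
  | [] => 0
  | x :: xs => 1 <<< x ||| maskOf xs

theorem maskOf_spec : ∀ {xs : List ℕ} {n : ℕ}, (maskOf xs).testBit n = true → n ∈ xs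
  | [], n, h => by simp [maskOf] at h
  | x :: xs, n, h => by
    rw [maskOf, Nat.testBit_lor, Bool.or_eq_true] at h
    rcases h with h | h
    · rw [Nat.one_shiftLeft, Nat.testBit_two_pow, decide_eq_true_eq] at h
      exact h ▸ List.mem_cons_self
    · exact List.mem_cons_of_mem _ (maskOf_spec h)

/-- The code of a vector. -/
def code (x : Vec) : ℕ :=
  [(0 : Fin 6), 1, 2, 3, 4, 5].foldr (fun i n => [F4.z, F4.e, F4.w, F4.x].idxOf (x i) + 4 * n) 0

/-- All nonzero multiples of the point vectors, coded. -/
noncomputable def pointCodes : List ℕ :=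
  pts.flatMap fun p => scalars.map fun l => code (l • pvec p)

end Cfsg.Agent.CosetEnum.Fi22.U6
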